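import Groth.Prelude.Def_SGA4b
import Groth.Prelude.Def_EtOpen
import Groth.Agent.EtFound.Basic
import Mathlib.AlgebraicGeometry.Morphisms.UniversallyOpen
import Mathlib.AlgebraicGeometry.Morphisms.Smooth
import Mathlib.AlgebraicGeometry.PullbackCarrier

/-!
# Zariski opens as subterminal objects of the etale topos
-/

universe u

open CategoryTheory CategoryTheory.Limits AlgebraicGeometry Opposite

namespace Groth.Agent.EtFound

set_option backward.isDefEq.respectTransparency.types false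

variable {X : Scheme.{u}}

theorem subsingleton_hom_ofOpen (U : X.Opens) (V : X.Etale) :
    Subsingleton (V ⟶ EtDesc.ofOpen U) := by
  refine ⟨fun a b => ?_⟩
  have e : a.left ≫ U.ι = b.left ≫ U.ι :=
    (MorphismProperty.Over.w a).trans (MorphismProperty.Over.w b).symm
  exact MorphismProperty.Over.Hom.ext ((cancel_mono U.ι).1 e)

theorem apply_hom {V W : X.Etale} (g : W ⟶ V) (w : W.left) :
    V.hom.base (g.left.base w) = W.hom.base w :=
  (Scheme.Hom.comp_apply g.left V.hom w).symm.trans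
    (congrArg (fun k => (k : W.left ⟶ X).base w) (MorphismProperty.Over.w g))

theorem exists_lift_ofOpen (U : X.Opens) {Y : Scheme.{u}} (h : Y ⟶ X) (hr : ∀ y : Y, h.base y ∈ U) :
    ∃ k : Y ⟶ U.toScheme, k ≫ U.ι = h :=
  ⟨IsOpenImmersion.lift U.ι h (by rintro _ ⟨y, rfl⟩; exact ⟨⟨_, hr y⟩, rfl⟩),
    IsOpenImmersion.lift_fac _ _ _⟩

theorem nonempty_hom_ofOpen_iff (U : X.Opens) (V : X.Etale) :
    Nonempty (V ⟶ EtDesc.ofOpen U) ↔ ∀ v : V.left, V.hom.base v ∈ U := by
  constructor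
  · rintro ⟨g⟩ v
    rw [← apply_hom g v]
    exact ((g.left.base v : U.toScheme)).2
  · intro h
    obtain ⟨k, hk⟩ := exists_lift_ofOpen U (V.hom : V.left ⟶ X) h
    exact ⟨MorphismProperty.Over.homMk k hk⟩

/-- the presheaf represented by an open -/
noncomputable abbrev openPre (U : X.Opens) : X.Etaleᵒᵖ ⥤ Type (u + 1) :=
  yoneda.obj (EtDesc.ofOpen U) ⋙ uliftFunctor.{u + 1, u}

theorem subsingleton_openPre (U : X.Opens) (V : X.Etaleᵒᵖ) :
    Subsingleton ((openPre U).obj V) :=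
  have := subsingleton_hom_ofOpen U V.unop
  inferInstanceAs (Subsingleton (ULift.{u + 1} (V.unop ⟶ EtDesc.ofOpen U)))

theorem isSheaf_openPre (U : X.Opens) :
    Presheaf.IsSheaf X.smallEtaleTopology (openPre U) := by
  rw [isSheaf_iff_isSheaf_of_type]
  intro V R hR x _
  have hsub := subsingleton_openPre U
  obtain ⟨g⟩ : Nonempty (V ⟶ EtDesc.ofOpen U) := by
    rw [nonempty_hom_ofOpen_iff]
    intro v
    obtain ⟨W, g, w, hg, rfl⟩ := (mem_topology_iff R).1 hR v
    have hW := (nonempty_hom_ofOpen_iff U W).1 ⟨(x g hg).down⟩ w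
    rwa [apply_hom g w]
  exact ⟨ULift.up g, fun W h hh => (hsub (op W)).elim _ _, fun t _ => (hsub (op V)).elim _ _⟩

/-- `repSh` of an open is the representable sheaf -/
noncomputable def repShOpenIso (U : X.Opens) :
    EtDesc.repSh (EtDesc.ofOpen U) ≅ (⟨openPre U, isSheaf_openPre U⟩ : EtDesc.Sh X) :=
  (sheafificationIso (⟨openPre U, isSheaf_openPre U⟩ : EtDesc.Sh X)).symm

theorem mono_terminal_from {F : EtDesc.Sh X}
    (h : ∀ V, Subsingleton (F.obj.obj V)) : Mono (terminal.from F) := by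
  refine ⟨fun a b _ => ?_⟩
  ext V x
  exact (h V).elim _ _

theorem subsingleton_of_mono_terminal_from {F : EtDesc.Sh X} (hF : Mono (terminal.from F))
    (V : X.Etaleᵒᵖ) : Subsingleton (F.obj.obj V) := by
  have h1 : IsTerminal ((sheafToPresheaf _ _ ⋙ (evaluation _ (Type (u + 1))).obj V).obj
      (⊤_ (EtDesc.Sh X))) :=
    IsTerminal.isTerminalObj (sheafToPresheaf _ _ ⋙ (evaluation _ _).obj V) _ terminalIsTerminal
  have hm : Mono ((sheafToPresheaf _ _).map (terminal.from F)) := inferInstance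
  have hinj := (mono_iff_injective _).1 (NatTrans.mono_iff_mono_app _ |>.1 hm V)
  have hs : Subsingleton ((⊤_ (EtDesc.Sh X)).obj.obj V) :=
    ⟨fun a b => ConcreteCategory.congr_hom
      (h1.hom_ext (↾fun _ : PUnit.{u + 2} => a) (↾fun _ => b)) PUnit.unit⟩
  exact ⟨fun a b => hinj (hs.elim _ _)⟩

theorem exists_open_iso (F : EtDesc.Sh X) (hF : ∀ V, Subsingleton (F.obj.obj V)) :
    ∃ U : X.Opens, Nonempty (F ≅ (⟨openPre U, isSheaf_openPre U⟩ : EtDesc.Sh X)) := by
  let U : X.Opens := ⟨{x | ∃ (W : X.Etale) (w : W.left), Nonempty (F.obj.obj (op W)) ∧ W.hom.base w = x}, by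
    refine isOpen_iff_forall_mem_open.2 ?_
    rintro _ ⟨W, w, hW, rfl⟩
    haveI : AlgebraicGeometry.Etale W.hom := W.prop
    exact ⟨Set.range W.hom.base, by rintro _ ⟨w', rfl⟩; exact ⟨W, w', hW, rfl⟩,
      (Scheme.Hom.isOpenMap W.hom).isOpen_range, ⟨w, rfl⟩⟩⟩
  have key : ∀ V : X.Etale, Nonempty (F.obj.obj (op V)) ↔ Nonempty (V ⟶ EtDesc.ofOpen U) := by
    intro V
    rw [nonempty_hom_ofOpen_iff]
    refine ⟨fun h v => ⟨V, v, h, rfl⟩, fun h => ?_⟩
    let R : Sieve V :=
      { arrows := fun W _ => Nonempty (F.obj.obj (op W))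
        downward_closed := fun ⟨s⟩ g => ⟨F.obj.map g.op s⟩ }
    have hR : R ∈ X.smallEtaleTopology V := by
      rw [mem_topology_iff]
      intro v
      obtain ⟨W, w, ⟨s⟩, hw⟩ := h v
      obtain ⟨z, hz, -⟩ := Scheme.Pullback.exists_preimage_pullback v w hw.symm
      haveI : AlgebraicGeometry.Etale W.hom := W.prop
      haveI : AlgebraicGeometry.Etale V.hom := V.prop
      let P : X.Etale := Scheme.Etale.mk (pullback.fst V.hom W.hom ≫ V.hom)
      exact ⟨P, MorphismProperty.Over.homMk (pullback.fst V.hom W.hom) rfl, z,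
        ⟨F.obj.map (MorphismProperty.Over.homMk (pullback.snd V.hom W.hom) pullback.condition.symm : P ⟶ W).op s⟩, hz⟩
    obtain ⟨t, -⟩ := (isSheaf_iff_isSheaf_of_type _ _).1 F.property R hR (fun W g hg => hg.some)
      (fun _ _ _ _ _ _ _ _ _ _ => (hF _).elim _ _)
    exact ⟨t⟩
  have hsub := subsingleton_openPre U
  refine ⟨U, ⟨ObjectProperty.isoMk _ (NatIso.ofComponents (fun V => Equiv.toIso
    { toFun := fun s => ULift.up ((key V.unop).1 ⟨s⟩).some
      invFun := fun g => ((key V.unop).2 ⟨g.down⟩).some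
      left_inv := fun _ => (hF V).elim _ _
      right_inv := fun _ => (hsub V).elim _ _ }) fun f => ?_)⟩⟩
  ext x
  exact (hsub _).elim _ _

end Groth.Agent.EtFound
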